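import Cfsg.Agent.Lib.SylowIso.Data
import Cfsg.Prelude.Def_Classical
import Mathlib.GroupTheory.SpecificGroups.Alternating
import Mathlib.LinearAlgebra.Matrix.SchurComplement
import Mathlib.Algebra.CharP.Two

/-!
# Embeddings of the tabled groups into `PSp₄(3)` and `O₆⁻(2)`
-/

set_option autoImplicit false
set_option linter.style.haveILetI false
set_option maxHeartbeats 1000000

namespace CfsgLib.SylowIso

open Matrix

/-- The numbering of `Fin 2 ⊕ Fin 2`. -/
def idxFour : Fin 2 ⊕ Fin 2 ≃ Fin 4 := finSumFinEquiv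

/-- The numbering of `(Fin 2 ⊕ Fin 2) ⊕ Fin 2`. -/
def idxSix : (Fin 2 ⊕ Fin 2) ⊕ Fin 2 ≃ Fin 6 :=
  (Equiv.sumCongr finSumFinEquiv (Equiv.refl (Fin 2))).trans finSumFinEquiv

/-- Entry of the standard alternating matrix modulo 3. -/
def jDigit (k l : Fin 4) : ℕ := if k.val + 2 = l.val then 2 else if l.val + 2 = k.val then 1 else 0

/-- A code is symplectic modulo 3. -/
def SympOK (a : ℕ) : Prop :=
  ∀ i j : Fin 4, (∑ k : Fin 4, ∑ l : Fin 4, digit 2 a (4 * i + k) * jDigit k l * digit 2 a (4 * j + l)) % 3 =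
    jDigit i j % 3

instance (a : ℕ) : Decidable (SympOK a) := by unfold SympOK; infer_instance

/-- Symplectic transvections detecting the centre. -/
def transvectionCodes : List ℕ :=
  [1 + 2 ^ 10 + 2 ^ 20 + 2 ^ 30 + 2 ^ 4, 1 + 2 ^ 10 + 2 ^ 20 + 2 ^ 30 + 2 ^ 14,
    1 + 2 ^ 10 + 2 ^ 20 + 2 ^ 30 + 2 ^ 16, 1 + 2 ^ 10 + 2 ^ 20 + 2 ^ 30 + 2 ^ 26,
    1 + 2 ^ 10 + 2 ^ 20 + 2 ^ 30 + 2 ^ 6 + 2 ^ 12]

/-- The checks for the symplectic table. -/
def SpCheck : Prop :=
  (∀ i : Fin 64, SympOK (altEightData.mat.getD i 0)) ∧ (∀ c ∈ transvectionCodes, SympOK c) ∧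
    (∀ i j : Fin 4, digit 2 (altEightData.mat.getD 0 0) (4 * i + j) = if i = j then 1 else 0) ∧
    (∀ (i : Fin 64) (g : Fin 3),
      MulOK 4 3 2 (altEightData.mat.getD i 0) (altEightData.mat.getD (altEightData.gen 64 3 g) 0)
          (altEightData.mat.getD (altEightData.stepFn 64 3 i g) 0) 1 ∨
        MulOK 4 3 2 (altEightData.mat.getD i 0) (altEightData.mat.getD (altEightData.gen 64 3 g) 0)
          (altEightData.mat.getD (altEightData.stepFn 64 3 i g) 0) 2) ∧
    ∀ i : Fin 64, i ≠ 0 → ∃ c ∈ transvectionCodes, ∃ r s : Fin 4,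
      (∑ k : Fin 4, digit 2 (altEightData.mat.getD i 0) (4 * r + k) * digit 2 c (4 * k + s)) % 3 ≠
        (∑ k : Fin 4, digit 2 c (4 * r + k) * digit 2 (altEightData.mat.getD i 0) (4 * k + s)) % 3

instance : Decidable SpCheck := by unfold SpCheck; infer_instance

theorem spCheck : SpCheck := by decide +kernel

theorem permOK_alt : altEightData.PermOK 64 3 := by decide +kernel

/-- The inverse of a generator. -/
def altGenInv (g : Fin 3) (y : Fin 8) : Fin 8 :=
  ((List.finRange 8).find? fun x => altEightData.pf 64 (altEightData.gen 64 3 g) x = y).getD 0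

theorem altGen_left_inv : ∀ g x, altGenInv g (altEightData.pf 64 (altEightData.gen 64 3 g) x) = x := by
  decide +kernel

theorem altGen_right_inv : ∀ g x, altEightData.pf 64 (altEightData.gen 64 3 g) (altGenInv g x) = x := by
  decide +kernel

/-- A generator as a permutation. -/
def altGenPerm (g : Fin 3) : Equiv.Perm (Fin 8) :=
  ⟨altEightData.pf 64 (altEightData.gen 64 3 g), altGenInv g, altGen_left_inv g, altGen_right_inv g⟩

theorem sign_alt : ∀ g : Fin 3, Equiv.Perm.sign (altGenPerm g) = 1 := by decide +kernel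

/-- The Sylow 2-subgroup of `A₈` embeds in `PSp₄(F)` for a field of three elements. -/
theorem exists_hom_alt {F : Type*} [Field F] [CharP F 3] :
    ∃ (A : Subgroup (Equiv.Perm (Fin 8))) (f : ↥A →* Cfsg.PSp 2 F),
      Nat.card A = 64 ∧ A ≤ alternatingGroup (Fin 8) ∧ Function.Injective f := by
  classical
  obtain ⟨hS, hT, h0, hmulOK, hker⟩ := spCheck
  obtain ⟨p, hpf, hpinj, hp0, hps⟩ := altEightData.exists_perm_fun 64 3 permOK_alt
  obtain ⟨-, -, -, -, -, htree⟩ := permOK_alt
  have hJ : (Matrix.J (Fin 2) F) = Matrix.of fun i j => (jDigit (idxFour i) (idxFour j) : F) := by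
    have h2 : (-1 : F) = 2 := by
      rw [neg_eq_iff_add_eq_zero]
      have := CharP.cast_eq_zero F 3
      push_cast at this
      linear_combination this
    ext i j
    rcases i with i | i <;> rcases j with j | j <;> fin_cases i <;> fin_cases j <;>
      simp [Matrix.J, jDigit, idxFour, finSumFinEquiv, Matrix.fromBlocks, h2]
  have hmem : ∀ a, SympOK a → (codeMat idxFour 2 a : Matrix _ _ F) ∈ Matrix.symplecticGroup (Fin 2) F := by
    intro a ha
    rw [SymplecticGroup.mem_iff, hJ]
    ext i j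
    simp only [Matrix.mul_apply, Matrix.of_apply, Matrix.transpose_apply, codeMat, Finset.sum_mul, ← Nat.cast_mul,
      ← Nat.cast_sum]
    rw [Finset.sum_comm,
      Fintype.sum_equiv idxFour _
        (fun k => ∑ l : Fin 4, digit 2 a (4 * idxFour i + k) * jDigit k l * digit 2 a (4 * idxFour j + l))
        (fun k => Fintype.sum_equiv idxFour _ _ fun l => rfl)]
    exact (CharP.natCast_eq_natCast F 3).2 (ha (idxFour i) (idxFour j))
  let u : Fin 64 → Matrix.symplecticGroup (Fin 2) F := fun i => ⟨_, hmem _ (hS i)⟩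
  let φ : Fin 64 → Cfsg.PSp 2 F := fun i => QuotientGroup.mk (u i)
  have hu0 : u 0 = 1 := by
    refine Subtype.ext (Matrix.ext fun i j => ?_)
    change (digit 2 (altEightData.mat.getD 0 0) (4 * idxFour i + idxFour j) : F) = (1 : Matrix _ _ F) i j
    rw [h0, Matrix.one_apply]
    by_cases h : i = j <;> simp [h]
  obtain ⟨A, f, hA, hf, hAr⟩ := exists_hom_of_table p φ (altEightData.gen 64 3) (altEightData.stepFn 64 3)
    (altEightData.parFn 64 3) hpinj hp0 (by rw [show φ 0 = QuotientGroup.mk (u 0) from rfl, hu0]; rfl) hps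
    (fun i g => by
      rw [show φ i * φ (altEightData.gen 64 3 g) = QuotientGroup.mk (u i * u (altEightData.gen 64 3 g)) from rfl]
      rw [QuotientGroup.eq, Subgroup.mem_center_iff]
      intro x
      rcases hmulOK i g with h | h
      · have : u i * u (altEightData.gen 64 3 g) = u (altEightData.stepFn 64 3 i g) :=
          Subtype.ext ((codeMat_mul idxFour h).trans (by rw [Nat.cast_one, one_smul]))
        rw [this, inv_mul_cancel, one_mul, mul_one]
      · have h' : (u i * u (altEightData.gen 64 3 g)).1 = (2 : F) • (u (altEightData.stepFn 64 3 i g)).1 :=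
          (codeMat_mul idxFour h).trans (by rw [Nat.cast_two])
        have h2 : ((u (altEightData.stepFn 64 3 i g))⁻¹ * (u i * u (altEightData.gen 64 3 g))).1 =
            (2 : F) • (1 : Matrix _ _ F) := by
          rw [Submonoid.coe_mul, h', Matrix.mul_smul, ← Submonoid.coe_mul, inv_mul_cancel, Submonoid.coe_one]
        refine Subtype.ext ?_
        change x.1 * _ = _ * x.1
        rw [h2, Matrix.mul_smul, Matrix.smul_mul, one_mul, mul_one])
    htree (fun j hj => by
      by_contra hne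
      obtain ⟨c, hc, r, s, hrs⟩ := hker j hne
      rw [show φ j = QuotientGroup.mk (u j) from rfl, QuotientGroup.eq_one_iff, Subgroup.mem_center_iff] at hj
      have h := congrArg (fun z : Matrix.symplecticGroup (Fin 2) F => z.1 (idxFour.symm r) (idxFour.symm s))
        (hj ⟨_, hmem c (hT c hc)⟩)
      simp only [Submonoid.coe_mul, Matrix.mul_apply, u, codeMat, Equiv.apply_symm_apply, ← Nat.cast_mul,
        ← Nat.cast_sum] at h
      rw [Fintype.sum_equiv idxFour _ (fun k => digit 2 c (4 * r + k) *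
          digit 2 (altEightData.mat.getD j 0) (4 * k + s)) (fun k => rfl),
        Fintype.sum_equiv idxFour _ (fun k => digit 2 (altEightData.mat.getD j 0) (4 * r + k) *
          digit 2 c (4 * k + s)) (fun k => rfl)] at h
      exact hrs ((CharP.natCast_eq_natCast F 3).1 h).symm)
  refine ⟨A, f, hA, ?_, hf⟩
  have hgen : ∀ g : Fin 3, p (altEightData.gen 64 3 g) = altGenPerm g := fun g => Equiv.ext (hpf _)
  have hall : ∀ (m : ℕ) (j : Fin 64), (j : ℕ) = m → Equiv.Perm.sign (p j) = 1 := by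
    intro m
    induction m using Nat.strong_induction_on with
    | _ m ih =>
      intro j hj
      by_cases hj0 : j = 0
      · rw [hj0, hp0, map_one]
      · obtain ⟨hlt, hs⟩ := htree j hj0
        have hlt' : ((altEightData.parFn 64 3 j).1 : ℕ) < m := hj ▸ hlt
        rw [← hs, hps, map_mul, ih _ hlt' _ rfl, hgen, sign_alt, one_mul]
  intro x hx
  obtain ⟨j, rfl⟩ := hAr.subset hx
  exact Equiv.Perm.mem_alternatingGroup.2 (hall _ j rfl)

/-- The quadratic form modulo 2 in the numbering. -/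
def qSix (w : Fin 6 → ℕ) : ℕ := w 0 * w 2 + w 1 * w 3 + (w 4 ^ 2 + w 4 * w 5 + w 5 ^ 2)

/-- A code preserves the form modulo 2. -/
def OrthOK (a : ℕ) : Prop :=
  ∀ v : Fin 6 → Fin 2, qSix (fun i => ∑ k : Fin 6, digit 1 a (6 * i + k) * (v k).val) % 2 =
    qSix (fun i => (v i).val) % 2

instance (a : ℕ) : Decidable (OrthOK a) := by unfold OrthOK; infer_instance

/-- The checks for the orthogonal table. -/
def OrthCheck : Prop :=
  (∀ g : Fin 3, OrthOK (symEightData.mat.getD (symEightData.gen 128 3 g) 0)) ∧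
    (∀ i j : Fin 6, digit 1 (symEightData.mat.getD 0 0) (6 * i + j) = if i = j then 1 else 0) ∧
    (∀ (i : Fin 128) (g : Fin 3),
      MulOK 6 2 1 (symEightData.mat.getD i 0) (symEightData.mat.getD (symEightData.gen 128 3 g) 0)
        (symEightData.mat.getD (symEightData.stepFn 128 3 i g) 0) 1) ∧
    (∀ g : Fin 3, ∃ j : Fin 128, symEightData.stepFn 128 3 j g = 0) ∧
    ∀ i : Fin 128, i ≠ 0 → ∃ r s : Fin 6,
      digit 1 (symEightData.mat.getD i 0) (6 * r + s) % 2 ≠ if r = s then 1 else 0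

instance : Decidable OrthCheck := by unfold OrthCheck; infer_instance

theorem orthCheck : OrthCheck := by decide +kernel

theorem permOK_sym : symEightData.PermOK 128 3 := by decide +kernel

/-- The Sylow 2-subgroup of `S₈` embeds in `O₆⁻(2)`. -/
theorem exists_hom_sym {K : Type*} [Field K] [Fintype K] (hK : Fintype.card K = 2) (a b : K)
    (hab : ∀ z₁ z₂ : K, z₁ ^ 2 + a * z₁ * z₂ + b * z₂ ^ 2 = 0 → z₁ = 0 ∧ z₂ = 0) :
    ∃ (A : Subgroup (Equiv.Perm (Fin 8))) (f : ↥A →* ↥(Cfsg.isometryGroup K (Cfsg.quadFormMinus 2 K a b))),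
      Nat.card A = 128 ∧ Function.Injective f := by
  classical
  haveI : CharP K 2 := charP_of_card_eq_prime hK
  have hall : ∀ x : K, x = ((0 : Fin 2) : ℕ) ∨ x = ((1 : Fin 2) : ℕ) := by
    intro x
    have h : ({0, 1} : Finset K) = Finset.univ := by
      refine Finset.eq_univ_of_card _ ?_
      rw [Finset.card_pair zero_ne_one, hK]
    simpa [← h] using Finset.mem_univ x
  have h01 : ∀ x : K, x = 0 ∨ x = 1 := fun x => by simpa using hall x
  have hb : b = 1 := (h01 b).resolve_left fun h => one_ne_zero (hab 0 1 (by rw [h]; ring)).2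
  have ha : a = 1 := (h01 a).resolve_left fun h => one_ne_zero
    (hab 1 1 (by rw [h, hb]; simp [CharTwo.add_self_eq_zero])).1
  subst a b
  obtain ⟨hO, h0, hmulOK, hinv, hker⟩ := orthCheck
  obtain ⟨p, hpf, hpinj, hp0, hps⟩ := symEightData.exists_perm_fun 128 3 permOK_sym
  obtain ⟨-, -, -, -, -, htree⟩ := permOK_sym
  let M : Fin 128 → Matrix _ _ K := fun i => codeMat idxSix 1 (symEightData.mat.getD i 0)
  have hM0 : M 0 = 1 := by
    ext i j
    change (digit 1 (symEightData.mat.getD 0 0) (6 * idxSix i + idxSix j) : K) = (1 : Matrix _ _ K) i j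
    rw [h0, Matrix.one_apply]
    by_cases h : i = j <;> simp [h]
  have hMs : ∀ i g, M (symEightData.stepFn 128 3 i g) = M i * M (symEightData.gen 128 3 g) := fun i g => by
    rw [show M i * M _ = _ from codeMat_mul idxSix (hmulOK i g), Nat.cast_one, one_smul]
  have hgen : ∀ g : Fin 3, ∃ u : Matrix.GeneralLinearGroup ((Fin 2 ⊕ Fin 2) ⊕ Fin 2) K, u.1 = M (symEightData.gen 128 3 g) ∧
      u ∈ Cfsg.isometryGroup K (Cfsg.quadFormMinus 2 K 1 1) := by
    intro g
    obtain ⟨j, hj⟩ := hinv g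
    have h1 : M j * M (symEightData.gen 128 3 g) = 1 := by rw [← hMs, hj, hM0]
    refine ⟨⟨_, M j, mul_eq_one_comm.1 h1, h1⟩, rfl, fun u _ => ?_⟩
    change Cfsg.quadFormMinus 2 K 1 1 (M (symEightData.gen 128 3 g) *ᵥ u) = Cfsg.quadFormMinus 2 K 1 1 u
    have hu : ∃ v : Fin 6 → Fin 2, ∀ i, u i = ((v (idxSix i)).val : K) := by
      have h' : ∀ k, ∃ c : Fin 2, u (idxSix.symm k) = (c.val : K) := fun k =>
        (hall _).elim (fun h => ⟨0, h⟩) (fun h => ⟨1, h⟩)
      choose v hv using h'
      exact ⟨v, fun i => by simpa using hv (idxSix i)⟩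
    obtain ⟨v, hv⟩ := hu
    have key : ∀ (x : (Fin 2 ⊕ Fin 2) ⊕ Fin 2 → K) (w : Fin 6 → ℕ), (∀ i, x i = (w (idxSix i) : K)) →
        Cfsg.quadFormMinus 2 K 1 1 x = (qSix w : K) := by
      intro x w hx
      simp only [Cfsg.quadFormMinus, hx, Fin.sum_univ_two, qSix, Nat.cast_add, Nat.cast_mul,
        Nat.cast_pow, one_mul]
      rfl
    rw [key u (fun i => (v i).val) hv, key _ (fun i => ∑ k : Fin 6,
      digit 1 (symEightData.mat.getD (symEightData.gen 128 3 g) 0) (6 * i + k) * (v k).val) (fun i => by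
        simp only [Matrix.mulVec, dotProduct, M, codeMat, hv, ← Nat.cast_mul, ← Nat.cast_sum]
        exact congrArg Nat.cast (Fintype.sum_equiv idxSix _ _ fun k => rfl))]
    exact (CharP.natCast_eq_natCast K 2).2 (hO g v)
  choose u hu hum using hgen
  have hex : ∀ (m : ℕ) (j : Fin 128), (j : ℕ) = m →
      ∃ x : ↥(Cfsg.isometryGroup K (Cfsg.quadFormMinus 2 K 1 1)),
        (x : Matrix.GeneralLinearGroup ((Fin 2 ⊕ Fin 2) ⊕ Fin 2) K).1 = M j := by
    intro m
    induction m using Nat.strong_induction_on with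
    | _ m ih =>
      intro j hj
      by_cases hj0 : j = 0
      · exact ⟨1, by rw [hj0, hM0]; rfl⟩
      · obtain ⟨hlt, hs⟩ := htree j hj0
        have hlt' : ((symEightData.parFn 128 3 j).1 : ℕ) < m := hj ▸ hlt
        obtain ⟨x, hx⟩ := ih _ hlt' _ rfl
        refine ⟨x * ⟨u (symEightData.parFn 128 3 j).2, hum _⟩, ?_⟩
        conv_rhs => rw [← hs, hMs, ← hx, ← hu]
        rfl
  choose φ hφ using fun j : Fin 128 => hex j j rfl
  have hext : ∀ x y : ↥(Cfsg.isometryGroup K (Cfsg.quadFormMinus 2 K 1 1)),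
      (x : Matrix.GeneralLinearGroup ((Fin 2 ⊕ Fin 2) ⊕ Fin 2) K).1 = (y : Matrix.GeneralLinearGroup ((Fin 2 ⊕ Fin 2) ⊕ Fin 2) K).1 → x = y :=
    by
    intro x y h
    apply Subtype.ext
    apply Units.ext
    exact h
  obtain ⟨A, f, hA, hf, -⟩ := exists_hom_of_table p φ (symEightData.gen 128 3) (symEightData.stepFn 128 3)
    (symEightData.parFn 128 3) hpinj hp0 (hext _ _ ((hφ 0).trans hM0)) hps
    (fun i g => hext _ _ (by
      rw [hφ, hMs, ← hφ i, ← hφ (symEightData.gen 128 3 g)]
      rfl))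
    htree (fun j hj => by
      by_contra hne
      obtain ⟨r, s, hrs⟩ := hker j hne
      have h := congrFun (congrFun (show M j = 1 by rw [← hφ, hj]; rfl) (idxSix.symm r)) (idxSix.symm s)
      rw [Matrix.one_apply] at h
      simp only [M, codeMat, Equiv.apply_symm_apply, EmbeddingLike.apply_eq_iff_eq] at h
      refine hrs ?_
      rcases eq_or_ne r s with e | e
      · subst e
        simpa [Nat.ModEq] using (CharP.natCast_eq_natCast K 2 (b := 1)).1 (h.trans (by simp))
      · simpa [e, Nat.ModEq] using (CharP.natCast_eq_natCast K 2 (b := 0)).1 (h.trans (by simp [e])))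
  exact ⟨A, f, hA, hf⟩

end CfsgLib.SylowIso
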