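import Mathlib.GroupTheory.Sylow
import Mathlib.GroupTheory.Perm.Basic
import Mathlib.Data.Matrix.Basic
import Mathlib.Algebra.CharP.Defs
import Mathlib.Algebra.BigOperators.Fin

/-!
# Isomorphisms of small groups from multiplication-by-generator tables

A group of permutations of eight points is listed element by element, together with the image of every
element in a second group; both lists obey the same table of right multiplication by generators, which
suffices for the resulting map to be a homomorphism.
-/

set_option autoImplicit false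
set_option linter.style.haveILetI false

namespace CfsgLib.SylowIso

/-- Two enumerations with the same table of multiplication by generators and a spanning tree give an
injective homomorphism between the enumerated subgroups. -/
theorem exists_hom_of_table {G H : Type*} [Group G] [Finite G] [Group H] {n k : ℕ} [NeZero n]
    (p : Fin n → G) (φ : Fin n → H) (gens : Fin k → Fin n) (step : Fin n → Fin k → Fin n)
    (par : Fin n → Fin n × Fin k) (hp : Function.Injective p) (hp0 : p 0 = 1) (hφ0 : φ 0 = 1)
    (hps : ∀ i g, p (step i g) = p i * p (gens g))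
    (hφs : ∀ i g, φ (step i g) = φ i * φ (gens g))
    (htree : ∀ j : Fin n, j ≠ 0 → (par j).1 < j ∧ step (par j).1 (par j).2 = j)
    (hker : ∀ j, φ j = 1 → j = 0) :
    ∃ (A : Subgroup G) (f : ↥A →* H), Nat.card A = n ∧ Function.Injective f ∧ (A : Set G) = Set.range p := by
  classical
  have key : ∀ (m : ℕ) (j : Fin n), (j : ℕ) = m →
      ∀ i, ∃ l, p l = p i * p j ∧ φ l = φ i * φ j := by
    intro m
    induction m using Nat.strong_induction_on with
    | _ m ih =>
      intro j hj i
      by_cases hj0 : j = 0
      · exact ⟨i, by rw [hj0, hp0, mul_one], by rw [hj0, hφ0, mul_one]⟩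
      · obtain ⟨hlt, hs⟩ := htree j hj0
        have hlt' : ((par j).1 : ℕ) < m := hj ▸ hlt
        obtain ⟨l, hl1, hl2⟩ := ih _ hlt' (par j).1 rfl i
        exact ⟨step l (par j).2, by rw [hps, hl1, mul_assoc, ← hps, hs],
          by rw [hφs, hl2, mul_assoc, ← hφs, hs]⟩
  have hmul : ∀ i j, ∃ l, p l = p i * p j ∧ φ l = φ i * φ j := fun i j => key j j rfl i
  let M : Submonoid G :=
    { carrier := Set.range p
      one_mem' := ⟨0, hp0⟩
      mul_mem' := by
        rintro _ _ ⟨i, rfl⟩ ⟨j, rfl⟩
        obtain ⟨l, hl, -⟩ := hmul i j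
        exact ⟨l, hl⟩ }
  let A : Subgroup G :=
    { M with
      inv_mem' := fun {x} hx => by
        have : x⁻¹ ∈ Submonoid.powers x := by
          rw [(isOfFinOrder_of_finite x).mem_powers_iff_mem_zpowers]
          exact ⟨-1, zpow_neg_one x⟩
        exact (Submonoid.powers_le.2 hx) this }
  let e : Fin n ≃ A := Equiv.ofBijective (fun i => ⟨p i, i, rfl⟩)
    ⟨fun i j h => hp (congrArg Subtype.val h), by
      rintro ⟨x, hx⟩
      obtain ⟨i, hi⟩ := (hx : x ∈ Set.range p)
      exact ⟨i, Subtype.ext hi⟩⟩
  have he : ∀ x : A, p (e.symm x) = (x : G) := fun x => congrArg Subtype.val (e.apply_symm_apply x)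
  let f : ↥A →* H := MonoidHom.mk' (fun x => φ (e.symm x)) (fun x y => by
    obtain ⟨l, hl1, hl2⟩ := hmul (e.symm x) (e.symm y)
    rw [← hl2]
    refine congrArg φ (hp ?_)
    rw [he, hl1, he, he, Subgroup.coe_mul])
  refine ⟨A, f, (Nat.card_congr e).symm.trans (Nat.card_fin n), ?_, rfl⟩
  rw [injective_iff_map_eq_one]
  intro x hx
  refine Subtype.ext ?_
  rw [← he x, hker _ hx, hp0]
  rfl

/-- Sylow subgroups of two groups are isomorphic as soon as some subgroup of the right order of the
first embeds in the second. -/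
theorem nonempty_equiv_sylow {G H : Type*} [Group G] [Finite G] [Group H] [Finite H] {p e a b : ℕ}
    [Fact p.Prime] (hG : Nat.card G = p ^ e * a) (ha : ¬ p ∣ a) (hH : Nat.card H = p ^ e * b) (hb : ¬ p ∣ b)
    (A : Subgroup G) (hA : Nat.card A = p ^ e) (f : ↥A →* H) (hf : Function.Injective f)
    (P : Sylow p G) (Q : Sylow p H) :
    Nonempty (↥(P : Subgroup G) ≃* ↥(Q : Subgroup H)) := by
  have hfac : ∀ m : ℕ, ¬ p ∣ m → (p ^ e * m).factorization p = e := by
    intro m hm
    have hp : p.Prime := Fact.out
    rw [Nat.factorization_mul (pow_ne_zero _ hp.ne_zero) (fun h => hm (by rw [h]; exact dvd_zero p)),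
      Finsupp.add_apply,
      hp.factorization_pow, Finsupp.single_eq_same, Nat.factorization_eq_zero_of_not_dvd hm, add_zero]
  let A' : Sylow p G := Sylow.ofCard A (by rw [hG, hfac a ha, hA])
  let B' : Sylow p H := Sylow.ofCard f.range (by
    rw [hH, hfac b hb, ← hA, Nat.card_congr (MonoidHom.ofInjective hf).toEquiv])
  exact ⟨((P.equiv A').trans ((MulEquiv.subgroupCongr (Sylow.coe_ofCard A _)).trans
    ((MonoidHom.ofInjective hf).trans (MulEquiv.subgroupCongr (Sylow.coe_ofCard f.range _).symm)))).trans
      (B'.equiv Q)⟩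

/-- The data of a table. -/
structure IsoData where
  /-- the indices of the generators -/
  gens : List ℕ
  /-- codes of the permutations -/
  perm : List ℕ
  /-- codes of the matrices -/
  mat : List ℕ
  /-- the spanning tree, `parent * ng + generator` -/
  parent : List ℕ
  /-- the table of multiplication by generators -/
  step : List ℕ

/-- A digit of a code. -/
def digit (b c i : ℕ) : ℕ := (c >>> (b * i)) % 2 ^ b

namespace IsoData

variable (D : IsoData) (n k : ℕ) [NeZero n] [NeZero k]

/-- The generators. -/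
def gen (g : Fin k) : Fin n := Fin.ofNat n (D.gens.getD g 0)

/-- The table. -/
def stepFn (i : Fin n) (g : Fin k) : Fin n := Fin.ofNat n (D.step.getD (i.val * k + g.val) 0)

/-- The tree. -/
def parFn (j : Fin n) : Fin n × Fin k :=
  (Fin.ofNat n (D.parent.getD j 0 / k), Fin.ofNat k (D.parent.getD j 0 % k))

/-- The point image. -/
def pf (i : Fin n) (x : Fin 8) : Fin 8 := Fin.ofNat 8 (digit 3 (D.perm.getD i 0) x)

/-- The checks on the permutations. -/
def PermOK : Prop :=
  (∀ x, D.pf n 0 x = x) ∧ (∀ i x y, D.pf n i x = D.pf n i y → x = y) ∧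
    ((List.range n).map fun i => D.perm.getD i 0).Nodup ∧ (∀ i < n, D.perm.getD i 0 < 2 ^ 24) ∧
    (∀ i g x, D.pf n (D.stepFn n k i g) x = D.pf n i (D.pf n (D.gen n k g) x)) ∧
    ∀ j : Fin n, j ≠ 0 → (D.parFn n k j).1 < j ∧ D.stepFn n k (D.parFn n k j).1 (D.parFn n k j).2 = j

instance : Decidable (D.PermOK n k) := by unfold PermOK; infer_instance

theorem exists_perm_fun (h : D.PermOK n k) :
    ∃ p : Fin n → Equiv.Perm (Fin 8), (∀ i x, p i x = D.pf n i x) ∧ Function.Injective p ∧ p 0 = 1 ∧
      ∀ i g, p (D.stepFn n k i g) = p i * p (D.gen n k g) := by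
  obtain ⟨h0, hinj, hnd, hlt, hs, -⟩ := h
  refine ⟨fun i => Equiv.ofBijective (D.pf n i) (Finite.injective_iff_bijective.1 fun x y => hinj i x y),
    fun i x => rfl, fun i j hij => ?_, Equiv.ext h0, fun i g => Equiv.ext (hs i g)⟩
  have hx : ∀ x : Fin 8, D.pf n i x = D.pf n j x := fun x => congrArg (fun e : Equiv.Perm (Fin 8) => e x) hij
  have hdig : ∀ x < 8, digit 3 (D.perm.getD i 0) x = digit 3 (D.perm.getD j 0) x := by
    intro x hx8
    have := congrArg Fin.val (hx ⟨x, hx8⟩)
    simp only [pf, Fin.ofNat, digit] at this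
    simpa [digit, Nat.mod_mod] using this
  have hc : D.perm.getD i 0 = D.perm.getD j 0 := by
    refine Nat.eq_of_testBit_eq fun t => ?_
    by_cases ht : t < 24
    · have := congrArg (fun c => c.testBit (t % 3)) (hdig (t / 3) (by omega))
      simp only [digit, Nat.testBit_mod_two_pow, Nat.testBit_shiftRight, Nat.mod_lt _ (by norm_num : 0 < 3),
        decide_true, Bool.true_and] at this
      rwa [Nat.div_add_mod] at this
    · rw [Nat.testBit_lt_two_pow ((hlt i i.2).trans_le (Nat.pow_le_pow_right two_pos (by omega))),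
        Nat.testBit_lt_two_pow ((hlt j j.2).trans_le (Nat.pow_le_pow_right two_pos (by omega)))]
  exact Fin.ext (List.inj_on_of_nodup_map hnd (List.mem_range.2 i.2) (List.mem_range.2 j.2) hc)

end IsoData

variable {ι : Type*} [Fintype ι] {d : ℕ} {R : Type*} [CommRing R]

/-- The matrix of a code, with entries read through `e`. -/
def codeMat (e : ι ≃ Fin d) (b c : ℕ) : Matrix ι ι R := fun i j => (digit b c (d * e i + e j) : R)

/-- `A * B = s • C` on codes, modulo `q`. -/
def MulOK (d q b a a' c s : ℕ) : Prop :=
  ∀ i j : Fin d, (∑ k : Fin d, digit b a (d * i + k) * digit b a' (d * k + j)) % q =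
    (s * digit b c (d * i + j)) % q

instance (d q b a a' c s : ℕ) : Decidable (MulOK d q b a a' c s) := by unfold MulOK; infer_instance

theorem codeMat_mul (e : ι ≃ Fin d) {q : ℕ} [CharP R q] {b a a' c s : ℕ} (h : MulOK d q b a a' c s) :
    (codeMat e b a : Matrix ι ι R) * codeMat e b a' = (s : R) • codeMat e b c := by
  ext i j
  rw [Matrix.mul_apply, Matrix.smul_apply, smul_eq_mul]
  simp only [codeMat, ← Nat.cast_mul]
  rw [← Nat.cast_sum]
  rw [Fintype.sum_equiv e (fun k => digit b a (d * e i + e k) * digit b a' (d * e k + e j))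
    (fun k => digit b a (d * e i + k) * digit b a' (d * k + e j)) (fun k => rfl)]
  exact (CharP.natCast_eq_natCast R q).2 (h (e i) (e j))

end CfsgLib.SylowIso
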